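import Groth.Agent.S4471
import Groth.Agent.S0012
import Groth.Agent.S0927
import Groth.Agent.S12131
import Groth.Agent.FAffSysLib.Presentations
import Groth.Agent.AmpleLib.Tensor
import Groth.Agent.AmpleLib.Pullback
import Groth.Agent.CurveLib.Inv
import Groth.Agent.CurveLib.Components
import Groth.Agent.ProjTwist.Vanish
import Mathlib.Algebra.TrivSqZeroExt

/-!
# Cohomology of twists tensored with modules from the base, by the square-zero extension
-/

set_option autoImplicit false
set_option backward.isDefEq.respectTransparency false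
set_option linter.style.haveILetI false
set_option maxHeartbeats 1000000

universe u

open CategoryTheory CategoryTheory.Limits AlgebraicGeometry TopologicalSpace Opposite

noncomputable section

namespace Groth.Agent.S11170Lib

/-- Cohomology as a functor of the module. -/
abbrev Hfun (X : Scheme.{u}) (i : ℕ) : X.Modules ⥤ AddCommGrpCat.{u} :=
  QCohLib.toAbF X ⋙ Sheaf.functorH (Opens.grothendieckTopology X) i

/-- A retract of an acyclic module is acyclic. -/
theorem subsingleton_HH_retract {X : Scheme.{u}} {A B : X.Modules} (i : A ⟶ B) (p : B ⟶ A) (h : i ≫ p = 𝟙 A)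
    {n : ℕ} (hB : Subsingleton (Coh.HH X B n)) : Subsingleton (Coh.HH X A n) := by
  refine ⟨fun x y => ?_⟩
  have key : ∀ z : Coh.HH X A n, (Hfun X n).map p ((Hfun X n).map i z) = z := fun z => by
    rw [← ConcreteCategory.comp_apply, ← Functor.map_comp, h, CategoryTheory.Functor.map_id]
    rfl
  rw [← key x, ← key y]
  exact congrArg _ (@Subsingleton.elim _ hB _ _)

/-- A module splits off its square-zero extension. -/
theorem exists_split {A : Type u} [CommRing A] (M Q : ModuleCat.{u} A) [Module Aᵐᵒᵖ M] [IsCentralScalar A M]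
    (e : Q ≃+ TrivSqZeroExt A M) (he : ∀ (a : A) (s : Q), e (a • s) = a • e s) :
    ∃ (a : M ⟶ Q) (b : Q ⟶ M), a ≫ b = 𝟙 M := by
  let ε : Q ≃ₗ[A] TrivSqZeroExt A M := e.toLinearEquiv he
  refine ⟨ModuleCat.ofHom (ε.symm.toLinearMap ∘ₗ TrivSqZeroExt.inrHom A M),
    ModuleCat.ofHom (TrivSqZeroExt.sndHom A M ∘ₗ ε.toLinearMap), ?_⟩
  ext m
  show TrivSqZeroExt.snd (ε (ε.symm (TrivSqZeroExt.inr m))) = m
  rw [LinearEquiv.apply_symm_apply, TrivSqZeroExt.snd_inr]

/-- The global sections of the direct image of the structure sheaf of an algebra. -/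
theorem exists_addEquiv_sections {A R : Type u} [CommRing A] [CommRing R] [Algebra A R] :
    ∃ e : ↥((moduleSpecΓFunctor (R := CommRingCat.of A)).obj ((Scheme.Modules.pushforward
        (Spec.map (CommRingCat.ofHom (algebraMap A R)))).obj (Coh.structureModule (Spec (CommRingCat.of R))))) ≃+ R,
      ∀ (a : A) s, e ((a : CommRingCat.of A) • s) = a • e s := by
  let ρ := (Scheme.ΓSpecIso (CommRingCat.of R)).commRingCatIsoToRingEquiv
  refine ⟨ρ.toAddEquiv, fun a s => ?_⟩
  let g := Spec.map (CommRingCat.ofHom (algebraMap A R))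
  have h1 : g.appTop ((Scheme.ΓSpecIso (CommRingCat.of A)).inv a) =
      (Scheme.ΓSpecIso (CommRingCat.of R)).inv (algebraMap A R a) :=
    congr($(Scheme.ΓSpecIso_inv_naturality (CommRingCat.ofHom (algebraMap A R))).hom a).symm
  show ρ (g.appTop ((Scheme.ΓSpecIso (CommRingCat.of A)).inv a) * (show Γ(Spec (CommRingCat.of R), ⊤) from s)) = _
  rw [h1, map_mul, Algebra.smul_def]
  congr 1
  exact ρ.apply_symm_apply _

/-- Retracts of global sections give retracts of quasi-coherent modules. -/
theorem exists_retract_of_sections {S : CommRingCat.{u}} (N F : (Spec S).Modules) [Coh.IsQCoh N] [Coh.IsQCoh F]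
    (a : (moduleSpecΓFunctor (R := S)).obj N ⟶ (moduleSpecΓFunctor (R := S)).obj F)
    (b : (moduleSpecΓFunctor (R := S)).obj F ⟶ (moduleSpecΓFunctor (R := S)).obj N) (hab : a ≫ b = 𝟙 _) :
    ∃ (i : N ⟶ F) (r : F ⟶ N), i ≫ r = 𝟙 N := by
  haveI : IsIso N.fromTildeΓ := Scheme.Modules.isIso_fromTildeΓ_of_isQuasicoherent N
  haveI : IsIso F.fromTildeΓ := Scheme.Modules.isIso_fromTildeΓ_of_isQuasicoherent F
  refine ⟨CategoryTheory.inv N.fromTildeΓ ≫ (tilde.functor S).map a ≫ F.fromTildeΓ,
    CategoryTheory.inv F.fromTildeΓ ≫ (tilde.functor S).map b ≫ N.fromTildeΓ, ?_⟩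
  simp only [Category.assoc, IsIso.hom_inv_id_assoc]
  rw [← Functor.map_comp_assoc, hab]
  have hid : (tilde.functor S).map (𝟙 ((moduleSpecΓFunctor (R := S)).obj N)) = 𝟙 _ := CategoryTheory.Functor.map_id _ _
  erw [hid, Category.id_comp]
  exact IsIso.inv_hom_id _

/-- Splitting for a module given abstractly. -/
theorem exists_retract_aux {A : Type u} [CommRing A] (N : (Spec (CommRingCat.of A)).Modules) [Coh.IsQCoh N]
    (M : ModuleCat.{u} A) [Module Aᵐᵒᵖ M] [IsCentralScalar A M]
    (hM : M = (moduleSpecΓFunctor (R := CommRingCat.of A)).obj N) :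
    ∃ (i : N ⟶ (Scheme.Modules.pushforward (Spec.map (CommRingCat.ofHom (algebraMap A (TrivSqZeroExt A M))))).obj
        (Coh.structureModule (Spec (CommRingCat.of (TrivSqZeroExt A M)))))
      (r : (Scheme.Modules.pushforward (Spec.map (CommRingCat.ofHom (algebraMap A (TrivSqZeroExt A M))))).obj
        (Coh.structureModule (Spec (CommRingCat.of (TrivSqZeroExt A M)))) ⟶ N), i ≫ r = 𝟙 N := by
  haveI : Coh.IsQCoh (Coh.structureModule (Spec (CommRingCat.of (TrivSqZeroExt A M)))) := CohBase.isQCoh_structureModule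
  haveI : Coh.IsQCoh ((Scheme.Modules.pushforward (Spec.map (CommRingCat.ofHom (algebraMap A (TrivSqZeroExt A M))))).obj
      (Coh.structureModule (Spec (CommRingCat.of (TrivSqZeroExt A M))))) := QCohLib.isQCoh_pushforward _ _
  obtain ⟨e, he⟩ := exists_addEquiv_sections (A := A) (R := TrivSqZeroExt A M)
  obtain ⟨a, b, hab⟩ := exists_split M _ e he
  exact exists_retract_of_sections N _ (eqToHom hM.symm ≫ a) (b ≫ eqToHom hM) (by
    rw [Category.assoc, reassoc_of% hab, eqToHom_trans, eqToHom_refl])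

/-- A quasi-coherent module is a retract of the direct image of a square-zero extension. -/
theorem exists_retract_sqzero {A : Type u} [CommRing A] (N : (Spec (CommRingCat.of A)).Modules) [Coh.IsQCoh N] :
    ∃ (R : Type u) (_ : CommRing R) (_ : Algebra A R)
      (i : N ⟶ (Scheme.Modules.pushforward (Spec.map (CommRingCat.ofHom (algebraMap A R)))).obj
        (Coh.structureModule (Spec (CommRingCat.of R))))
      (r : (Scheme.Modules.pushforward (Spec.map (CommRingCat.ofHom (algebraMap A R)))).obj
        (Coh.structureModule (Spec (CommRingCat.of R))) ⟶ N), i ≫ r = 𝟙 N := by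
  obtain ⟨M, hM⟩ : ∃ M : ModuleCat.{u} A, M = (moduleSpecΓFunctor (R := CommRingCat.of A)).obj N := ⟨_, rfl⟩
  letI : Module Aᵐᵒᵖ M := Module.compHom M ((RingHom.id A).fromOpposite fun a b => mul_comm a b)
  haveI : IsCentralScalar A M := ⟨fun _ _ => rfl⟩
  exact ⟨TrivSqZeroExt A M, inferInstance, inferInstance, exists_retract_aux N M hM⟩

/-- The cohomology of `p^*N ⊗ O(d)` outside the middle degree. -/
theorem subsingleton_HH_twist (n : ℕ) {A : Type u} [CommRing A] (N : (Spec (CommRingCat.of A)).Modules) [Coh.IsQCoh N]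
    (d : ℤ) (i : ℕ) (h0 : ¬ (i = 0 ∧ 0 ≤ d)) (hr : ¬ (i = n ∧ d ≤ -((n : ℤ) + 1))) :
    Subsingleton (Coh.HH (CohB1.ProjSpace n A)
      (CohB1.tensorMod ((Scheme.Modules.pullback (CohB1.ProjSpace.toSpec n A)).obj N) (Twist.twistProjSpace n A d)) i) := by
  obtain ⟨R, _, _, ι, r, hir⟩ := exists_retract_sqzero N
  obtain ⟨g', sq, ⟨τ⟩⟩ := S4471.exists_bc n A R d
  let g := Spec.map (CommRingCat.ofHom (algebraMap A R))
  let p := CohB1.ProjSpace.toSpec n A
  let pR := CohB1.ProjSpace.toSpec n R
  haveI : IsAffineHom g' := MorphismProperty.of_isPullback (P := @IsAffineHom) sq.flip inferInstance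
  let O := Twist.twistProjSpace n A d
  have hinv : PicF.IsInvertible O := ProjTwistLib.isInvertible_of_hasUnit (S4471.hasUnit_projSpace n A d)
  haveI : Coh.IsQCoh O := InvExt.isQCoh_of_isInvertible hinv
  let T := CurveLib.tensR O
  let P := Scheme.Modules.pullback p
  refine subsingleton_HH_retract (T.map (P.map ι)) (T.map (P.map r))
    (by rw [← Functor.map_comp, ← Functor.map_comp, hir, CategoryTheory.Functor.map_id, CategoryTheory.Functor.map_id]) ?_
  let OR := Coh.structureModule (Spec (CommRingCat.of R))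
  haveI : Coh.IsQCoh OR := CohBase.isQCoh_structureModule
  have hu := S12131.result g p pR g' sq.flip OR
  let u₁ := @asIso _ _ _ _ _ hu
  let OP := Coh.structureModule (CohB1.ProjSpace n R)
  let u₂ : (Scheme.Modules.pushforward g').obj ((Scheme.Modules.pullback pR).obj OR) ≅
      (Scheme.Modules.pushforward g').obj OP :=
    (Scheme.Modules.pushforward g').mapIso (DCohLib.pullStructureIso pR)
  haveI : HasInjectiveResolutions (CohB1.ProjSpace n R).Modules := inferInstance
  haveI : (Scheme.Modules.pushforward g').IsRightAdjoint :=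
    (Scheme.Modules.pullbackPushforwardAdjunction g').isRightAdjoint
  haveI : PreservesFiniteLimits (Scheme.Modules.pushforward g') := inferInstance
  obtain ⟨u₃⟩ := S0927.result g' OP O (CurveLib.isFinLocFree_of_isInvertible hinv) 0
  let z : Coh.Rpush g' 0 ≅ Scheme.Modules.pushforward g' := (Scheme.Modules.pushforward g').rightDerivedZeroIsoSelf
  let tot : CohB1.tensorMod ((Scheme.Modules.pullback p).obj ((Scheme.Modules.pushforward g).obj OR)) O ≅
      (Scheme.Modules.pushforward g').obj (Twist.twistProjSpace n R d) :=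
    AmpleLib.tIso (u₁ ≪≫ u₂ ≪≫ (z.app OP).symm) (Iso.refl O) ≪≫ AmpleLib.comm _ _ ≪≫ u₃ ≪≫ z.app _ ≪≫
      (Scheme.Modules.pushforward g').mapIso (AmpleLib.unitR _ ≪≫ τ)
  refine CurveLib.subsingleton_HH_iso tot.symm i ?_
  haveI : Coh.IsQCoh (Twist.twistProjSpace n R d) :=
    InvExt.isQCoh_of_isInvertible (ProjTwistLib.isInvertible_of_hasUnit (S4471.hasUnit_projSpace n R d))
  obtain ⟨E⟩ := S0012.result g' (Twist.twistProjSpace n R d) i
  haveI : Subsingleton (Coh.HH (CohB1.ProjSpace n R) (Twist.twistProjSpace n R d) i) :=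
    ProjTwist.subsingleton_HH n R d i h0 hr
  exact E.symm.toEquiv.subsingleton

end Groth.Agent.S11170Lib
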